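import Mathlib
import Cfsg.Agent.H10.BaseTwo.OddMain
import Cfsg.Agent.Robinson.Module
import Cfsg.Agent.PGroups.Basic
import Cfsg.Agent.Coprime.External

/-!
# Two points for coprime operators of a `p`-group, from the linear case
-/

set_option linter.style.haveILetI false

namespace Cfsg.Agent.H42.Base2

open Cfsg.Agent.Coprime

universe u v

/-- Base two for coprime solvable linear groups over the prime fields of odd order. -/
def LinearBaseTwo : Prop :=
  ∀ (p : ℕ) [Fact p.Prime], p ≠ 2 → ∀ (V : Type v) [AddCommGroup V] [Module (ZMod p) V] [Finite V]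
    (G : Type v) [Group G] [Finite G] [Group.IsSolvable G] (ρ : Representation (ZMod p) G V),
      Function.Injective ρ → (Nat.card G).Coprime (Nat.card V) →
        ∃ x y : V, ∀ g : G, ρ g x = x → ρ g y = y → g = 1

/-- The linear step: coprime solvable operators of an elementary abelian `p`-group. -/
theorem exists_pair_module (hlin : LinearBaseTwo.{v}) {p : ℕ} [Fact p.Prime]
    {A : Type u} [Group A] [Finite A] (hA : Group.IsSolvable A) {V : Type v} [AddCommGroup V]
    [Finite V] [Module (ZMod p) V] [DistribMulAction A V]
    (hcop : (Nat.card A).Coprime (Nat.card V)) (hpA : ¬ p ∣ Nat.card A) :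
    ∃ v w : V, ∀ a : A, a • v = v → a • w = w → ∀ u : V, a • u = u := by
  classical
  haveI := hA
  let ρ : Representation (ZMod p) A V :=
    { toFun := fun a => (DistribSMul.toAddMonoidHom V a).toZModLinearMap p
      map_one' := LinearMap.ext fun v => one_smul A v
      map_mul' := fun a b => LinearMap.ext fun v => mul_smul a b v }
  by_cases hp2 : p = 2
  · subst hp2
    have hodd : Odd (Nat.card A) := Nat.odd_iff.2 (Nat.two_dvd_ne_zero.1 hpA)
    obtain ⟨t, -, ht⟩ := H10.BaseTwo.exists_pair_of_completelyReducible
      (fun S _ _ _ hirr ι _ _ => H10.BaseTwo.exists_regular2_irred hodd hirr)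
      (fun U hU => by
        obtain ⟨W, hW, hc⟩ := Robinson.exists_inv_compl (ρ := ρ) hpA
          (AddSubgroup.toZModSubmodule 2 U) (fun a x hx => hU a x hx)
        refine ⟨W.toAddSubgroup, fun a w hw => hW a w hw, ?_, ?_⟩
        · rw [eq_bot_iff]
          intro x hx
          exact (Submodule.mem_bot (ZMod 2)).1 (hc.inf_eq_bot ▸ (⟨hx.1, hx.2⟩ :
            x ∈ AddSubgroup.toZModSubmodule 2 U ⊓ W))
        · rw [eq_top_iff]
          intro x _
          obtain ⟨u, hu, w, hw, rfl⟩ := Submodule.mem_sup.1
            (hc.sup_eq_top.symm ▸ Submodule.mem_top : x ∈ AddSubgroup.toZModSubmodule 2 U ⊔ W)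
          exact AddSubgroup.add_mem_sup hu hw)
      (⊤ : AddSubgroup V) (fun a x _ => AddSubgroup.mem_top _)
    exact ⟨t.1, t.2, fun a h1 h2 u => ht a h1 h2 u (AddSubgroup.mem_top u)⟩
  · let ρu := ρ.toHomUnits
    haveI : Finite ρu.range := Finite.of_surjective _ ρu.rangeRestrict_surjective
    haveI : Group.IsSolvable ρu.range :=
      Group.isSolvable_of_surjective ρu.rangeRestrict_surjective
    obtain ⟨x, y, hxy⟩ := hlin p hp2 V ρu.range
      ((Units.coeHom _).comp ρu.range.subtype)
      (fun a b h => Subtype.ext (Units.ext h))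
      (hcop.coprime_dvd_left (Subgroup.card_range_dvd ρu))
    refine ⟨x, y, fun a h1 h2 u => ?_⟩
    have := congrArg Subtype.val (hxy ⟨ρu a, a, rfl⟩ h1 h2)
    exact LinearMap.congr_fun (congrArg Units.val this) u


/-- A coprime solvable group of operators of a finite `p`-group fixes two of its points only if it
fixes every point, for suitable points. -/
theorem exists_pair_pGroup (hlin : LinearBaseTwo.{v}) {p : ℕ} [Fact p.Prime]
    {A : Type u} [Group A] [Finite A] (hA : Group.IsSolvable A) {P : Type v} [Group P] [Finite P]
    [MulDistribMulAction A P] (hP : IsPGroup p P) (hcop : (Nat.card A).Coprime (Nat.card P)) :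
    ∃ x y : P, ∀ a : A, a • x = x → a • y = y → ∀ z : P, a • z = z := by
  classical
  haveI := hA
  let Φ : Subgroup P := frattini P
  have hΦ : ∀ a : A, Φ ≤ Φ.comap (MulDistribMulAction.toMonoidHom P a) := fun a =>
    le_of_eq (Subgroup.characteristic_iff_comap_eq.1 (inferInstanceAs (frattini P).Characteristic)
      (MulDistribMulAction.toMulEquiv P a)).symm
  letI : CommGroup (P ⧸ Φ) :=
    { (inferInstance : Group (P ⧸ Φ)) with
      mul_comm := by
        intro x y
        induction x using QuotientGroup.induction_on with
        | _ a =>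
          induction y using QuotientGroup.induction_on with
          | _ b =>
            refine commutatorElement_eq_one_iff_mul_comm.1
              ((map_commutatorElement (QuotientGroup.mk' Φ) a b).symm.trans
                ((QuotientGroup.eq_one_iff _).2 ?_))
            exact PGroups.commutator_le_frattini hP
              (Subgroup.commutator_mem_commutator (Subgroup.mem_top a) (Subgroup.mem_top b)) }
  let V := Additive (P ⧸ Φ)
  letI : Module (ZMod p) V := AddCommGroup.zmodModule fun x => by
    change Additive.ofMul ((x.toMul) ^ p) = 0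
    refine Additive.toMul.injective ?_
    change x.toMul ^ p = 1
    induction x.toMul using QuotientGroup.induction_on with
    | _ a =>
      rw [← QuotientGroup.mk_pow, QuotientGroup.eq_one_iff]
      exact PGroups.pow_mem_frattini hP a
  let f : A → (P ⧸ Φ →* P ⧸ Φ) := fun a =>
    QuotientGroup.map Φ Φ (MulDistribMulAction.toMonoidHom P a) (hΦ a)
  have hf : ∀ (a : A) (z : P), f a (z : P ⧸ Φ) = QuotientGroup.mk (a • z) := fun a z => rfl
  letI : DistribMulAction A V :=
    { smul := fun a x => Additive.ofMul (f a x.toMul)
      one_smul := fun x => by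
        change Additive.ofMul (f 1 x.toMul) = x
        refine Additive.toMul.injective ?_
        change f 1 x.toMul = x.toMul
        induction x.toMul using QuotientGroup.induction_on with
        | _ z => rw [hf, one_smul]
      mul_smul := fun a b x => by
        change Additive.ofMul (f (a * b) x.toMul) = Additive.ofMul (f a (f b x.toMul))
        refine congrArg Additive.ofMul ?_
        induction x.toMul using QuotientGroup.induction_on with
        | _ z => rw [hf, hf, hf, mul_smul]
      smul_zero := fun a => congrArg Additive.ofMul (map_one (f a))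
      smul_add := fun a x y => congrArg Additive.ofMul (map_mul (f a) x.toMul y.toMul) }
  -- fixing the Frattini quotient is fixing everything
  have hup : ∀ a : A, (∀ v : V, a • v = v) → ∀ z : P, a • z = z := by
    intro a ha
    have hBc : (Nat.card (Subgroup.zpowers a)).Coprime (Nat.card P) :=
      hcop.coprime_dvd_left (Subgroup.card_subgroup_dvd_card _)
    have hfix : ∀ (b : Subgroup.zpowers a) (v : V), (b : A) • v = v := fun b v => by
      have hst : Subgroup.zpowers a ≤ MulAction.stabilizer A v := Subgroup.zpowers_le.2 (ha v)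
      exact hst b.2
    let C := FixedPoints.subgroup (Subgroup.zpowers a) P
    have hinv : IsInvariant (Subgroup.zpowers a) Φ := fun b x hx => hΦ (b : A) hx
    have htop : C ⊔ Φ = ⊤ := by
      rw [eq_top_iff]
      intro g _
      obtain ⟨c, hc, hn⟩ := exists_fixed_mem_coset hBc (Or.inl inferInstance) hinv (g := g)
        fun b => by
          have h := hfix b (Additive.ofMul (g : P ⧸ Φ))
          have h' : QuotientGroup.mk ((b : A) • g) = (g : P ⧸ Φ) := congrArg Additive.toMul h
          exact (QuotientGroup.eq.1 h'.symm)
      have : g = c * (g⁻¹ * c)⁻¹ := by group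
      rw [this]
      exact Subgroup.mul_mem_sup hc (inv_mem hn)
    intro z
    exact (frattini_nongenerating htop ▸ Subgroup.mem_top z : z ∈ C) ⟨a, Subgroup.mem_zpowers a⟩
  suffices h : ∃ v w : V, ∀ a : A, a • v = v → a • w = w → ∀ u : V, a • u = u by
    obtain ⟨v, w, hvw⟩ := h
    obtain ⟨x, hx⟩ := QuotientGroup.mk_surjective v.toMul
    obtain ⟨y, hy⟩ := QuotientGroup.mk_surjective w.toMul
    refine ⟨x, y, fun a h1 h2 => hup a (hvw a ?_ ?_)⟩
    · refine Additive.toMul.injective ?_
      change f a v.toMul = v.toMul
      rw [← hx, hf, h1]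
    · refine Additive.toMul.injective ?_
      change f a w.toMul = w.toMul
      rw [← hy, hf, h2]
  by_cases hsub : Subsingleton V
  · exact ⟨0, 0, fun a _ _ u => Subsingleton.elim _ _⟩
  rw [not_subsingleton_iff_nontrivial] at hsub
  have hpV : ∀ v : V, p • v = 0 := fun v => by
    rw [← Nat.cast_smul_eq_nsmul (ZMod p), ZMod.natCast_self, zero_smul]
  have hdvdV : Nat.card V ∣ Nat.card P := by
    rw [show Nat.card V = Φ.index from (Nat.card_congr Additive.toMul).trans rfl]
    exact Subgroup.index_dvd_card Φ
  have hpdvd : p ∣ Nat.card P := by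
    obtain ⟨v, hv⟩ := exists_ne (0 : V)
    exact (addOrderOf_eq_prime (hpV v) hv ▸ addOrderOf_dvd_natCard v).trans hdvdV
  have hpA : ¬ p ∣ Nat.card A := fun hd =>
    (Fact.out : p.Prime).not_dvd_one (hcop ▸ Nat.dvd_gcd hd hpdvd)
  exact exists_pair_module hlin hA
    (Nat.Coprime.coprime_dvd_right hdvdV hcop) hpA

end Cfsg.Agent.H42.Base2
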