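import Mathlib

/-!
# Actions with equal fixed point numbers have equally many points with a given stabiliser
-/

namespace Cfsg.Agent.H42.Base2

open MulAction

variable {G X Y : Type*} [Group G] [Finite G] [MulAction G X] [MulAction G Y] [Finite X] [Finite Y]

/-- The fixed points of a subgroup split along the stabilisers. -/
theorem card_fixed_split (B : Subgroup G) [Fintype (Subgroup G)]
    [DecidablePred fun C : Subgroup G => B ≤ C] :
    Nat.card {x : X // B ≤ stabilizer G x} =
      ∑ C ∈ Finset.univ.filter (fun C : Subgroup G => B ≤ C),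
        Nat.card {x : X // stabilizer G x = C} := by
  classical
  letI := Fintype.ofFinite X
  simp only [Nat.card_eq_fintype_card, Fintype.card_subtype]
  rw [Finset.card_eq_sum_card_fiberwise (f := fun x : X => stabilizer G x)
    (t := Finset.univ.filter (fun C : Subgroup G => B ≤ C)) (fun x hx => by simpa using hx)]
  refine Finset.sum_congr rfl fun C hC => congrArg Finset.card ?_
  ext x
  simp only [Finset.mem_filter, Finset.mem_univ, true_and] at hC ⊢
  exact ⟨fun h => h.2, fun h => ⟨h.symm ▸ hC, h⟩⟩

/-- Equal fixed point numbers give equally many points with each stabiliser. -/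
theorem card_stabilizer_eq
    (h : ∀ B : Subgroup G, Nat.card {x : X // B ≤ stabilizer G x} =
      Nat.card {y : Y // B ≤ stabilizer G y}) (B : Subgroup G) :
    Nat.card {x : X // stabilizer G x = B} = Nat.card {y : Y // stabilizer G y = B} := by
  classical
  letI : Fintype (Subgroup G) := Fintype.ofFinite _
  induction B using WellFoundedGT.induction with
  | _ B ih =>
    have hB : B ∈ Finset.univ.filter (fun C : Subgroup G => B ≤ C) := by simp
    have hx := card_fixed_split (X := X) B
    have hy := card_fixed_split (X := Y) B
    rw [← Finset.add_sum_erase _ _ hB] at hx hy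
    have hs : ∑ C ∈ (Finset.univ.filter (fun C : Subgroup G => B ≤ C)).erase B,
          Nat.card {x : X // stabilizer G x = C} =
        ∑ C ∈ (Finset.univ.filter (fun C : Subgroup G => B ≤ C)).erase B,
          Nat.card {y : Y // stabilizer G y = C} :=
      Finset.sum_congr rfl fun C hC => ih C (by
        simp only [Finset.mem_erase, Finset.mem_filter, Finset.mem_univ, true_and] at hC
        exact lt_of_le_of_ne hC.2 (Ne.symm hC.1))
    have := h B
    omega

/-- Transfer of a point with trivial stabiliser. -/
theorem exists_free_of_card_fixed_eq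
    (h : ∀ B : Subgroup G, Nat.card {x : X // B ≤ stabilizer G x} =
      Nat.card {y : Y // B ≤ stabilizer G y}) {y : Y} (hy : stabilizer G y = ⊥) :
    ∃ x : X, stabilizer G x = ⊥ := by
  have hY : 0 < Nat.card {y : Y // stabilizer G y = ⊥} :=
    Nat.card_pos_iff.2 ⟨⟨⟨y, hy⟩⟩, inferInstance⟩
  rw [← card_stabilizer_eq h] at hY
  obtain ⟨⟨⟨x, hx⟩⟩, -⟩ := Nat.card_pos_iff.1 hY
  exact ⟨x, hx⟩

end Cfsg.Agent.H42.Base2
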