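import Mathlib
import Cfsg.Agent.Coprime.External
import Cfsg.Agent.H42.Base2.Marks

/-!
# Coprime operators: pairs of points and the product of invariant Sylow subgroups
-/

namespace Cfsg.Agent.H42.Base2

open Cfsg.Agent.Coprime MulAction
open scoped Pointwise

universe u v

variable {A : Type u} {K : Type v} [Group A] [Finite A] [Group K] [Finite K]
  [MulDistribMulAction A K]

/-- The fixed points of a subgroup of operators have the order of the product of the fixed points
in one invariant Sylow subgroup for each prime. -/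
theorem card_fixed_primePart (hA : Group.IsSolvable A) (hcop : (Nat.card A).Coprime (Nat.card K))
    (B : Subgroup A) {p : ℕ} [Fact p.Prime] (P : Sylow p K) (hP : IsInvariant A (P : Subgroup K)) :
    Nat.card {x : K // x ∈ (P : Subgroup K) ∧ ∀ b ∈ B, b • x = x} =
      p ^ (Nat.card {x : K // ∀ b ∈ B, b • x = x}).factorization p := by
  classical
  have hBs : Group.IsSolvable B ∨ Group.IsSolvable K := Or.inl inferInstance
  have hBc : (Nat.card B).Coprime (Nat.card K) :=
    hcop.coprime_dvd_left (Subgroup.card_subgroup_dvd_card B)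
  have hPB : IsInvariant B (P : Subgroup K) := fun b x hx => hP b x hx
  let C : Subgroup K := FixedPoints.subgroup B K
  have hC : ∀ x, x ∈ C ↔ ∀ b ∈ B, b • x = x :=
    fun x => ⟨fun h b hb => h ⟨b, hb⟩, fun h b => h b b.2⟩
  obtain ⟨Q⟩ : Nonempty (Sylow p C) := inferInstance
  let U : Subgroup K := (Q : Subgroup C).map C.subtype
  have hUC : U ≤ C := Subgroup.map_subtype_le _
  have hUcard : Nat.card U = p ^ (Nat.card C).factorization p := by
    rw [Subgroup.card_map_of_injective C.subtype_injective, Q.card_eq_multiplicity]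
  obtain ⟨R, hUR, hR⟩ := exists_invariant_sylow_ge' hBc hBs p (Q.isPGroup'.map C.subtype)
    (U := U) (fun b x hx => by rw [show b • x = x from hUC hx b]; exact hx)
  obtain ⟨c, hc, hcR⟩ := exists_fixed_conj_sylow hBc hBs p R P hR hPB
  have hle : U.map (MulAut.conj c).toMonoidHom ≤ (P : Subgroup K) ⊓ C := by
    rintro _ ⟨x, hx, rfl⟩
    refine ⟨?_, C.mul_mem (C.mul_mem hc (hUC hx)) (C.inv_mem hc)⟩
    rw [← hcR]
    exact ⟨x, hUR hx, rfl⟩
  have h1 : p ^ (Nat.card C).factorization p ≤ Nat.card ((P : Subgroup K) ⊓ C : Subgroup K) := by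
    rw [← hUcard, ← Subgroup.card_map_of_injective (f := (MulAut.conj c).toMonoidHom)
      (MulAut.conj c).injective]
    exact Nat.card_le_card_of_injective _ (Subgroup.inclusion_injective hle)
  obtain ⟨n, hn⟩ := IsPGroup.iff_card.1 (P.isPGroup'.to_le
    (inf_le_left : (P : Subgroup K) ⊓ C ≤ P))
  have h2 : n ≤ (Nat.card C).factorization p := by
    rw [← (Fact.out : p.Prime).pow_dvd_iff_le_factorization Nat.card_pos.ne', ← hn]
    exact Subgroup.card_dvd_of_le inf_le_right
  have h3 : n = (Nat.card C).factorization p :=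
    le_antisymm h2 ((Nat.pow_le_pow_iff_right (Fact.out : p.Prime).one_lt).1 (hn ▸ h1))
  calc Nat.card {x : K // x ∈ (P : Subgroup K) ∧ ∀ b ∈ B, b • x = x}
      = Nat.card ((P : Subgroup K) ⊓ C : Subgroup K) :=
        Nat.card_congr (Equiv.subtypeEquivRight fun x => by rw [Subgroup.mem_inf, hC])
    _ = p ^ (Nat.card C).factorization p := by rw [hn, h3]
    _ = _ := by rw [Nat.card_congr (Equiv.subtypeEquivRight hC)]

/-- For a coprime solvable group of operators, two points with trivial common stabiliser exist as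
soon as they exist in each invariant Sylow subgroup modulo the kernel of the action on it. -/
theorem exists_pair_of_sylow [FaithfulSMul A K] (hA : Group.IsSolvable A)
    (hcop : (Nat.card A).Coprime (Nat.card K))
    (h : ∀ (p : ℕ) [Fact p.Prime] (P : Sylow p K), IsInvariant A (P : Subgroup K) →
      ∃ x ∈ (P : Subgroup K), ∃ y ∈ (P : Subgroup K), ∀ a : A, a • x = x → a • y = y →
        ∀ z ∈ (P : Subgroup K), a • z = z) :
    ∃ x y : K, ∀ a : A, a • x = x → a • y = y → a = 1 := by
  classical
  let ι := {p : ℕ // p ∈ (Nat.card K).primeFactors}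
  haveI : ∀ i : ι, Fact i.1.Prime := fun i => ⟨Nat.prime_of_mem_primeFactors i.2⟩
  have hex : ∀ i : ι, ∃ P : Sylow i.1 K, IsInvariant A (P : Subgroup K) := fun i =>
    exists_invariant_sylow' hcop (Or.inl hA) i.1
  choose P hP using hex
  let W : Type v := (i : ι) → (P i : Subgroup K)
  letI instP : ∀ i, MulAction A (P i : Subgroup K) := fun i =>
    { smul := fun a x => ⟨a • (x : K), hP i a x x.2⟩
      one_smul := fun x => Subtype.ext (one_smul A (x : K))
      mul_smul := fun a b x => Subtype.ext (mul_smul a b (x : K)) }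
  have hcoe : ∀ i (a : A) (x : (P i : Subgroup K)), ((a • x : (P i : Subgroup K)) : K) = a • (x : K) :=
    fun i a x => rfl
  -- fixed points of subgroups
  have hfix : ∀ B : Subgroup A,
      Nat.card {x : K × K // B ≤ stabilizer A x} = Nat.card {x : W × W // B ≤ stabilizer A x} := by
    intro B
    have hK : Nat.card {x : K × K // B ≤ stabilizer A x} =
        Nat.card ({x : K // ∀ b ∈ B, b • x = x} × {x : K // ∀ b ∈ B, b • x = x}) :=
      Nat.card_congr
        { toFun := fun x => (⟨x.1.1, fun b hb => congrArg Prod.fst (x.2 hb)⟩,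
            ⟨x.1.2, fun b hb => congrArg Prod.snd (x.2 hb)⟩)
          invFun := fun x => ⟨(x.1.1, x.2.1), fun b hb => Prod.ext (x.1.2 b hb) (x.2.2 b hb)⟩
          left_inv := fun x => rfl
          right_inv := fun x => rfl }
    have hW : Nat.card {x : W × W // B ≤ stabilizer A x} =
        Nat.card (((i : ι) → {x : K // x ∈ (P i : Subgroup K) ∧ ∀ b ∈ B, b • x = x}) ×
          ((i : ι) → {x : K // x ∈ (P i : Subgroup K) ∧ ∀ b ∈ B, b • x = x})) :=
      Nat.card_congr
        { toFun := fun x =>
            (fun i => ⟨x.1.1 i, (x.1.1 i).2, fun b hb =>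
              congrArg Subtype.val (congrFun (congrArg Prod.fst (x.2 hb)) i)⟩,
             fun i => ⟨x.1.2 i, (x.1.2 i).2, fun b hb =>
              congrArg Subtype.val (congrFun (congrArg Prod.snd (x.2 hb)) i)⟩)
          invFun := fun x => ⟨(fun i => ⟨x.1 i, (x.1 i).2.1⟩, fun i => ⟨x.2 i, (x.2 i).2.1⟩),
            fun b hb => Prod.ext (funext fun i => Subtype.ext ((x.1 i).2.2 b hb))
              (funext fun i => Subtype.ext ((x.2 i).2.2 b hb))⟩
          left_inv := fun x => rfl
          right_inv := fun x => rfl }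
    have hprod : Nat.card {x : K // ∀ b ∈ B, b • x = x} =
        Nat.card ((i : ι) → {x : K // x ∈ (P i : Subgroup K) ∧ ∀ b ∈ B, b • x = x}) := by
      rw [Nat.card_pi, Finset.prod_congr rfl fun i _ => card_fixed_primePart hA hcop B (P i) (hP i)]
      let C : Subgroup K := FixedPoints.subgroup B K
      have hC : Nat.card {x : K // ∀ b ∈ B, b • x = x} = Nat.card C :=
        Nat.card_congr (Equiv.subtypeEquivRight fun x =>
          (⟨fun h b => h b b.2, fun h b hb => h ⟨b, hb⟩⟩ : _ ↔ x ∈ C))
      rw [hC]
      have hd : Nat.card C ∣ Nat.card K := Subgroup.card_subgroup_dvd_card C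
      conv_lhs => rw [← Nat.prod_factorization_pow_eq_self (Nat.card_pos (α := C)).ne']
      rw [Finsupp.prod, Nat.support_factorization,
        Finset.prod_subset (Nat.primeFactors_mono hd Nat.card_pos.ne') fun q _ hq => by
          rw [show (Nat.card C).factorization q = 0 from by
            rwa [← Finsupp.notMem_support_iff, Nat.support_factorization], pow_zero]]
      exact (Finset.prod_coe_sort (Nat.card K).primeFactors
        fun q => q ^ (Nat.card C).factorization q).symm
    rw [hK, hW, Nat.card_prod, Nat.card_prod, hprod]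
  -- a free point in the product
  choose x hx y hy hxy using fun i => h i.1 (P i) (hP i)
  have hfree : stabilizer A ((fun i => ⟨x i, hx i⟩, fun i => ⟨y i, hy i⟩) : W × W) = ⊥ := by
    rw [eq_bot_iff]
    intro a ha
    have ha' : a • ((fun i => ⟨x i, hx i⟩, fun i => ⟨y i, hy i⟩) : W × W) = _ := ha
    let F : Subgroup K := FixedPoints.subgroup (Subgroup.zpowers a) K
    have hF : ∀ z : K, a • z = z → z ∈ F := by
      intro z hz b
      have : (b : A) ∈ stabilizer A z := Subgroup.zpowers_le.2 hz b.2
      exact this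
    have htop : F = ⊤ := by
      apply Subgroup.eq_top_of_card_eq
      refine Nat.dvd_antisymm (Subgroup.card_subgroup_dvd_card F) ?_
      rw [← Nat.factorization_le_iff_dvd Nat.card_pos.ne' Nat.card_pos.ne']
      intro q
      by_cases hq : q ∈ (Nat.card K).primeFactors
      · let i : ι := ⟨q, hq⟩
        have hle : (P i : Subgroup K) ≤ F := fun z hz => hF z (hxy i a
          (congrArg Subtype.val (congrFun (congrArg Prod.fst ha') i))
          (congrArg Subtype.val (congrFun (congrArg Prod.snd ha') i)) z hz)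
        have hd := Subgroup.card_dvd_of_le hle
        rw [(P i).card_eq_multiplicity] at hd
        exact ((Nat.prime_of_mem_primeFactors hq).pow_dvd_iff_le_factorization Nat.card_pos.ne').1 hd
      · rw [← Nat.support_factorization, Finsupp.notMem_support_iff] at hq
        rw [hq]
        exact Nat.zero_le _
    refine Subgroup.mem_bot.2 (FaithfulSMul.eq_of_smul_eq_smul (α := K) fun z => ?_)
    rw [one_smul]
    exact (htop ▸ Subgroup.mem_top z : z ∈ F) ⟨a, Subgroup.mem_zpowers a⟩
  obtain ⟨⟨x₀, y₀⟩, hxy₀⟩ := exists_free_of_card_fixed_eq hfix hfree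
  refine ⟨x₀, y₀, fun a h1 h2 => ?_⟩
  have : a ∈ stabilizer A (x₀, y₀) := Prod.ext h1 h2
  rwa [hxy₀, Subgroup.mem_bot] at this

end Cfsg.Agent.H42.Base2
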