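import Mathlib
import Cfsg.Prelude
import Cfsg.Agent.H42.Base2.Product
import Cfsg.Agent.H42.Base2.PGroup
import Cfsg.Agent.Cores.Basic
import Cfsg.Agent.Hall.Existence

/-!
# Base two for coprime operators and for Hall subgroups, from the linear case
-/

set_option linter.style.haveILetI false

namespace Cfsg.Agent.H42.Base2

open Cfsg.Agent.Coprime Cfsg.Agent.Cores
open scoped Pointwise

universe u v

/-- Base two for a coprime solvable group of operators (S4372), given the linear case. -/
theorem exists_pair_coprime (hlin : LinearBaseTwo.{v}) {A : Type u} {K : Type v} [Group A] [Finite A]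
    [Group K] [Finite K] [MulDistribMulAction A K] [FaithfulSMul A K] (hA : Group.IsSolvable A)
    (hcop : (Nat.card A).Coprime (Nat.card K)) :
    ∃ x y : K, ∀ a : A, a • x = x → a • y = y → a = 1 := by
  refine exists_pair_of_sylow hA hcop fun p _ P hP => ?_
  letI : MulDistribMulAction A (P : Subgroup K) :=
    { smul := fun a x => ⟨a • (x : K), hP a x x.2⟩
      one_smul := fun x => Subtype.ext (one_smul A (x : K))
      mul_smul := fun a b x => Subtype.ext (mul_smul a b (x : K))
      smul_mul := fun a x y => Subtype.ext (smul_mul' a (x : K) (y : K))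
      smul_one := fun a => Subtype.ext (smul_one a) }
  obtain ⟨x, y, h⟩ := exists_pair_pGroup hlin hA P.isPGroup'
    (hcop.coprime_dvd_right (Subgroup.card_subgroup_dvd_card _))
  exact ⟨x, x.2, y, y.2, fun a h1 h2 z hz =>
    congrArg Subtype.val (h a (Subtype.ext h1) (Subtype.ext h2) ⟨z, hz⟩)⟩

/-- A normal series with `p`-power factors for `p ∈ π` and `π'`-factors. -/
def HasPiSeries (π : Set ℕ) (G : Type*) [Group G] : Prop :=
  ∃ (n : ℕ) (N : Fin (n + 1) → Subgroup G), N 0 = ⊥ ∧ N (Fin.last n) = ⊤ ∧ Monotone N ∧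
    (∀ i, (N i).Normal) ∧
    ∀ i : Fin n, (∃ p ∈ π, p.Prime ∧ ∃ k : ℕ, (N i.castSucc).relIndex (N i.succ) = p ^ k) ∨
      (∀ q : ℕ, q.Prime → q ∣ (N i.castSucc).relIndex (N i.succ) → q ∉ π)

theorem relIndex_dvd_mono {G : Type*} [Group G] (N : Subgroup G) [N.Normal] {M L : Subgroup G}
    (h : M ≤ L) : N.relIndex M ∣ N.relIndex L := by
  rw [← Subgroup.relIndex_subgroupOf (H := N) h]
  exact Subgroup.relIndex_dvd_index_of_normal ..

theorem relIndex_map_dvd {G G' : Type*} [Group G] [Group G'] (f : G →* G') {A B : Subgroup G}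
    [A.Normal] (hAB : A ≤ B) : (A.map f).relIndex (B.map f) ∣ A.relIndex B := by
  rw [Subgroup.relIndex_map_map, show B ⊔ f.ker = B ⊔ (A ⊔ f.ker) from by
    rw [← sup_assoc, sup_eq_left.2 hAB], Subgroup.relIndex_sup_right]
  exact Subgroup.relIndex_dvd_of_le_left B le_sup_left

theorem HasPiSeries.map {π : Set ℕ} {G : Type*} [Group G] [Finite G] {G' : Type*} [Group G']
    {f : G →* G'} (hf : Function.Surjective f) (h : HasPiSeries π G) : HasPiSeries π G' := by
  obtain ⟨n, N, h0, h1, hmono, hn, hq⟩ := h
  have hdvd : ∀ i : Fin n, ((N i.castSucc).map f).relIndex ((N i.succ).map f) ∣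
      (N i.castSucc).relIndex (N i.succ) := fun i => by
    haveI := hn i.castSucc
    exact relIndex_map_dvd f (hmono (Fin.castSucc_le_succ i))
  refine ⟨n, fun i => (N i).map f, by simp only [h0, Subgroup.map_bot],
    by simp only [h1, Subgroup.map_top_of_surjective f hf], fun i j hij => Subgroup.map_mono (hmono hij),
    fun i => (hn i).map f hf, fun i => ?_⟩
  rcases hq i with ⟨p, hpπ, hp, k, hk⟩ | h
  · obtain ⟨j, -, hj⟩ := (Nat.dvd_prime_pow hp).1 (hk ▸ hdvd i)
    exact Or.inl ⟨p, hpπ, hp, j, hj⟩
  · exact Or.inr fun q hq hd => h q hq (hd.trans (hdvd i))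

theorem HasPiSeries.isSolvable {π : Set ℕ} {G : Type*} [Group G] [Finite G] (h : HasPiSeries π G)
    (H : Subgroup G) (hH : IsPiNumber π (Nat.card H)) : Group.IsSolvable H := by
  obtain ⟨n, N, h0, h1, hmono, hn, hq⟩ := h
  have key : ∀ i : Fin (n + 1), Group.IsSolvable (H ⊓ N i : Subgroup G) := by
    intro i
    induction i using Fin.induction with
    | zero =>
      haveI : Subsingleton (H ⊓ N 0 : Subgroup G) := by
        rw [h0, inf_bot_eq]; infer_instance
      infer_instance
    | succ i ih =>
      let T : Subgroup (H ⊓ N i.succ : Subgroup G) := (N i.castSucc).subgroupOf _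
      haveI := hn i.castSucc
      haveI : T.Normal := inferInstance
      have hTcard : (H ⊓ N i.castSucc : Subgroup G) = T.map (Subgroup.subtype _) := by
        rw [Subgroup.subgroupOf_map_subtype, inf_comm (N i.castSucc), inf_assoc,
          inf_eq_right.2 (hmono (Fin.castSucc_le_succ i))]
      haveI := ih
      haveI : Group.IsSolvable T := by
        have e := T.equivMapOfInjective _ (Subgroup.subtype_injective _)
        exact solvable_of_solvable_injective (f := ((MulEquiv.subgroupCongr hTcard.symm).toMonoidHom.comp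
          e.toMonoidHom)) ((MulEquiv.subgroupCongr hTcard.symm).injective.comp e.injective)
      have hd : Nat.card (_ ⧸ T) ∣ (N i.castSucc).relIndex (N i.succ) :=
        relIndex_dvd_mono _ inf_le_right
      haveI : Group.IsSolvable (_ ⧸ T) := by
        rcases hq i with ⟨p, -, hp, k, hk⟩ | hq'
        · haveI := Fact.mk hp
          obtain ⟨j, -, hj⟩ := (Nat.dvd_prime_pow hp).1 (hk ▸ hd)
          haveI := (IsPGroup.of_card hj).isNilpotent
          infer_instance
        · have h1 : Nat.card ((H ⊓ N i.succ : Subgroup G) ⧸ T) = 1 := by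
            by_contra hne
            obtain ⟨q, hq1, hq2⟩ := Nat.exists_prime_and_dvd hne
            refine hq' q hq1 (hq2.trans hd) (hH q hq1 (hq2.trans ?_))
            exact (Subgroup.card_quotient_dvd_card T).trans (Subgroup.card_dvd_of_le inf_le_left)
          haveI := (Nat.card_eq_one_iff_unique.1 h1).1
          infer_instance
      exact Group.isSolvable_of_ker_le_range T.subtype (QuotientGroup.mk' T)
        (by rw [QuotientGroup.ker_mk', Subgroup.range_subtype])
  have := key (Fin.last n)
  rw [h1, inf_top_eq] at this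
  exact this

/-- Hall–Higman 1.2.3 along a series. -/
theorem HasPiSeries.centralizer_le {π : Set ℕ} {G : Type*} [Group G] [Finite G]
    (h : HasPiSeries π G) (hO : Cfsg.piCore π G = ⊥) :
    Subgroup.centralizer (Cfsg.piCore πᶜ G : Set G) ≤ Cfsg.piCore πᶜ G := by
  obtain ⟨n, N, h0, h1, hmono, hn, hq⟩ := h
  set K := Cfsg.piCore πᶜ G
  set C := Subgroup.centralizer (K : Set G) with hC
  have key : ∀ i : Fin (n + 1), C ⊓ N i ≤ K := by
    intro i
    induction i using Fin.induction with
    | zero => rw [h0, inf_bot_eq]; exact bot_le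
    | succ i ih =>
      haveI := hn i.succ
      haveI := hn i.castSucc
      set M := C ⊓ N i.succ
      haveI hMn : M.Normal := inferInstance
      -- the part inside the core is central
      have hcard : Nat.card M ∣ Nat.card K * (N i.castSucc).relIndex (N i.succ) := by
        have h2 : (N i.castSucc ⊓ M).relIndex M = (N i.castSucc).relIndex M :=
          Subgroup.inf_relIndex_right _ _
        rw [← Subgroup.relIndex_bot_left, ← Subgroup.relIndex_mul_relIndex ⊥
          (N i.castSucc ⊓ M) M bot_le inf_le_right, h2, Subgroup.relIndex_bot_left]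
        refine Nat.mul_dvd_mul (Subgroup.card_dvd_of_le fun x hx => ih ⟨hx.2.1, hx.1⟩)
          (relIndex_dvd_mono _ inf_le_right)
      have hK : IsPiNumber πᶜ (Nat.card K) := piCore_isPiNumber _
      rcases hq i with ⟨p, hpπ, hp, k, hk⟩ | hq'
      · haveI := Fact.mk hp
        obtain ⟨P⟩ := (inferInstance : Nonempty (Sylow p M))
        rw [hk] at hcard
        have hpK : ¬ p ∣ Nat.card K := fun hd => hK p hp hd hpπ
        -- M is a central extension of a p-group
        let Z : Subgroup M := (K.subgroupOf M)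
        have hZc : Z ≤ Subgroup.center M := fun z hz => Subgroup.mem_center_iff.2 fun m =>
          Subtype.ext ((m.2.1 z hz).symm)
        have hZP : Z ⊔ (P : Subgroup M) = ⊤ := by
          apply Subgroup.eq_top_of_card_eq
          refine Nat.dvd_antisymm (Subgroup.card_subgroup_dvd_card _) ?_
          rw [← Nat.factorization_prime_le_iff_dvd Nat.card_pos.ne' Nat.card_pos.ne']
          intro q hq1
          by_cases hqp : q = p
          · subst hqp
            rw [← hq1.pow_dvd_iff_le_factorization Nat.card_pos.ne', ← P.card_eq_multiplicity]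
            exact Subgroup.card_dvd_of_le le_sup_right
          · have hKM : Z.index ∣ p ^ k := by
              have h3 : Z.index ∣ (N i.castSucc).relIndex M :=
                Subgroup.relIndex_dvd_of_le_left M
                  (show N i.castSucc ⊓ M ≤ K from fun x hx => ih ⟨hx.2.1, hx.1⟩) |>.trans
                  (dvd_of_eq (Subgroup.inf_relIndex_right _ _))
              exact h3.trans (hk ▸ relIndex_dvd_mono _ inf_le_right)
            rw [← hq1.pow_dvd_iff_le_factorization Nat.card_pos.ne']
            refine dvd_trans ?_ (Subgroup.card_dvd_of_le (le_sup_left (b := (P : Subgroup M))))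
            refine (Nat.Coprime.dvd_of_dvd_mul_right ?_
              ((Nat.ordProj_dvd _ _).trans (Subgroup.card_mul_index Z).symm.dvd))
            exact Nat.Coprime.coprime_dvd_right hKM
              (((Nat.coprime_primes hq1 hp).2 hqp).pow _ _)
        haveI hPn : (P : Subgroup M).Normal := by
          rw [← Subgroup.normalizer_eq_top_iff, eq_top_iff, ← hZP, sup_le_iff]
          refine ⟨hZc.trans ?_, Subgroup.le_normalizer⟩
          exact Subgroup.center_le_normalizer _
        haveI := P.characteristic_of_normal hPn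
        haveI : ((P : Subgroup M).map M.subtype).Normal := inferInstance
        have hP1 : (P : Subgroup M).map M.subtype ≤ Cfsg.piCore π G := le_piCore fun q hq hd => by
          rw [Subgroup.card_map_of_injective M.subtype_injective, P.card_eq_multiplicity] at hd
          exact (Nat.prime_dvd_prime_iff_eq hq hp).1 (hq.dvd_of_dvd_pow hd) ▸ hpπ
        rw [hO, le_bot_iff, Subgroup.map_eq_bot_iff_of_injective _ M.subtype_injective] at hP1
        rw [hP1, sup_bot_eq, Subgroup.subgroupOf_eq_top] at hZP
        exact hZP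
      · exact le_piCore fun q hq hd => by
          rcases hq.dvd_mul.1 (hd.trans hcard) with h | h
          · exact hK q hq h
          · exact hq' q hq h
  have := key (Fin.last n)
  rwa [h1, inf_top_eq] at this

/-- Base two for Hall subgroups (S4373), given the linear case. -/
theorem exists_hall_meet {G : Type u} [Group G] [Finite G] (hlin : LinearBaseTwo.{u}) {π : Set ℕ}
    (hsolv : HasPiSeries π G) (H : Subgroup G) (hH : Cfsg.IsPiHall π H) :
    ∃ x y : G, H ⊓ MulAut.conj x • H ⊓ MulAut.conj y • H = Cfsg.piCore π G := by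
  classical
  set O := Cfsg.piCore π G
  let q := QuotientGroup.mk' O
  have hq : Function.Surjective q := QuotientGroup.mk'_surjective O
  set Hb := H.map q
  have hs : HasPiSeries π (G ⧸ O) := hsolv.map hq
  have hHb : Cfsg.IsPiHall π Hb := Hall.IsPiHall.map hq hH
  have hO : Cfsg.piCore π (G ⧸ O) = ⊥ := piCore_quotient_piCore π
  set K := Cfsg.piCore πᶜ (G ⧸ O)
  have hdisj : ∀ g ∈ Hb, g ∈ K → g = 1 := by
    intro g hg hgK
    refine orderOf_eq_one_iff.1 (Nat.eq_one_of_dvd_coprimes
      (IsPiNumber.coprime (π := π) (ρ := πᶜ) hHb.1 (piCore_isPiNumber _) fun p _ h1 h2 => h2 h1)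
      (Subgroup.orderOf_dvd_natCard _ hg) (Subgroup.orderOf_dvd_natCard _ hgK))
  letI : MulDistribMulAction Hb K :=
    MulDistribMulAction.compHom K ((MulAut.conjNormal (H := K)).comp Hb.subtype)
  have hsm : ∀ (h : Hb) (k : K), ((h • k : K) : G ⧸ O) = (h : G ⧸ O) * k * (h : G ⧸ O)⁻¹ :=
    fun h k => MulAut.conjNormal_apply ..
  haveI : FaithfulSMul Hb K := ⟨fun {a b} hab => by
    have hc : ((a⁻¹ * b : Hb) : G ⧸ O) ∈ Subgroup.centralizer (K : Set (G ⧸ O)) := by
      intro k hk
      have h1 := congrArg Subtype.val (hab ⟨k, hk⟩)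
      rw [hsm, hsm] at h1
      push_cast
      calc k * ((a : G ⧸ O)⁻¹ * b) = (a : G ⧸ O)⁻¹ * ((a : G ⧸ O) * k * (a : G ⧸ O)⁻¹) * b := by group
        _ = (a : G ⧸ O)⁻¹ * ((b : G ⧸ O) * k * (b : G ⧸ O)⁻¹) * b := by rw [h1]
        _ = _ := by group
    have := hdisj _ (a⁻¹ * b).2 (hs.centralizer_le hO hc)
    exact inv_mul_eq_one.1 (Subtype.ext this)⟩
  obtain ⟨x, y, hxy⟩ := exists_pair_coprime (A := Hb) (K := K) hlin
    (hs.isSolvable Hb hHb.1)
    (IsPiNumber.coprime (π := π) (ρ := πᶜ) hHb.1 (piCore_isPiNumber _) fun p _ h1 h2 => h2 h1)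
  obtain ⟨x₀, hx₀⟩ := hq x
  obtain ⟨y₀, hy₀⟩ := hq y
  refine ⟨x₀, y₀, le_antisymm ?_ ?_⟩
  · intro g hg
    obtain ⟨⟨hgH, hgx⟩, hgy⟩ := hg
    have key : ∀ (z : K) (z₀ : G), q z₀ = z → g ∈ MulAut.conj z₀ • H →
        (⟨q g, g, hgH, rfl⟩ : Hb) • z = z := by
      intro z z₀ hz hgz
      obtain ⟨g', hg', he⟩ := hgz
      have he' : (z : G ⧸ O) * q g' * (z : G ⧸ O)⁻¹ = q g := by
        rw [← he, ← hz]
        simp [MulAut.smul_def]
      have h2 : q g * (q g')⁻¹ = 1 := by
        refine hdisj _ (mul_mem ⟨g, hgH, rfl⟩ (inv_mem ⟨g', hg', rfl⟩)) ?_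
        rw [← he', mul_assoc (z : G ⧸ O), mul_assoc (z : G ⧸ O)]
        exact mul_mem z.2 ((piCore_normal πᶜ _).conj_mem _ (inv_mem z.2) _)
      rw [mul_inv_eq_one] at h2
      apply Subtype.ext
      rw [hsm]
      change q g * z * (q g)⁻¹ = z
      rw [mul_inv_eq_iff_eq_mul]
      nth_rw 1 [← he']
      rw [h2]
      group
    exact (QuotientGroup.eq_one_iff g).1
      (congrArg Subtype.val (hxy _ (key x x₀ hx₀ hgx) (key y y₀ hy₀ hgy)))
  · have hle : O ≤ H := Hall.IsPiHall.normal_le hH (piCore_isPiNumber π)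
    refine le_inf (le_inf hle ?_) ?_ <;>
    · rw [← Subgroup.Normal.conj_smul_eq_self _ O]
      exact Subgroup.pointwise_smul_le_pointwise_smul_iff.2 hle

end Cfsg.Agent.H42.Base2
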